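import Groth.Agent.GeomPi0.Basic
import Groth.Agent.SpQS.GoodPt
import Groth.Agent.AlgSpLib.RepUniv
import Mathlib.FieldTheory.KrullTopology

/-!
The Galois group and the points of a base change of an algebraic space.
-/

universe u
open CategoryTheory CategoryTheory.Limits AlgebraicGeometry AlgSp Topology TensorProduct

set_option backward.isDefEq.respectTransparency false

namespace Groth.Agent.GaloisPts

open Groth.Agent.AlgSpLib Groth.Agent.GeomPi0

variable {k : Type u} [Field k]

/-- the extension as an object over the ground field -/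
noncomputable abbrev Ext (K : Type u) [CommRing K] [Algebra k K] : Over (Spec (CommRingCat.of k)) :=
  Over.mk (Spec.map (CommRingCat.ofHom (algebraMap k K)))

/-- maps of extensions -/
noncomputable abbrev extMap {K L : Type u} [CommRing K] [CommRing L] [Algebra k K] [Algebra k L] (φ : K →ₐ[k] L) :
    Ext (k := k) L ⟶ Ext (k := k) K :=
  Over.homMk (Spec.map (CommRingCat.ofHom φ.toRingHom)) (by
    show Spec.map _ ≫ Spec.map _ = Spec.map _
    rw [← Spec.map_comp]; congr 1; ext x; exact φ.commutes x)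

/-- points over the same point are translates -/
theorem exists_translate (X : Sp (Spec (CommRingCat.of k))) (K : Type u) [Field K] [Algebra k K] [Normal k K]
    {z₁ z₂ : Points (X ⨯ (yon _).obj (Ext (k := k) K))}
    (h : Points.map Limits.prod.fst z₁ = Points.map Limits.prod.fst z₂) :
    ∃ σ : K ≃ₐ[k] K, Points.map (Limits.prod.map (𝟙 X) ((yon _).map (extMap σ.toAlgHom))) z₁ = z₂ := by
  obtain ⟨T₁, a₁, t₁, rfl⟩ := exists_ofPt z₁
  obtain ⟨T₂, a₂, t₂, rfl⟩ := exists_ofPt z₂
  rw [Points.map_ofPt, Points.map_ofPt] at h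
  obtain ⟨W, α, β, w, e, hα, hβ⟩ := exists_of_ofPt_eq h
  let Ω := W.left.residueField w
  let pw : Over.mk (W.left.fromSpecResidueField w ≫ W.hom) ⟶ W := Over.homMk (W.left.fromSpecResidueField w) rfl
  obtain ⟨ψ, hψ⟩ := Spec.map_surjective (W.left.fromSpecResidueField w ≫ W.hom)
  letI : Algebra k Ω := ψ.hom.toAlgebra
  obtain ⟨m₁, hm₁⟩ := (yon _).map_surjective ((yon _).map (pw ≫ α) ≫ a₁ ≫ Limits.prod.snd)
  obtain ⟨m₂, hm₂⟩ := (yon _).map_surjective ((yon _).map (pw ≫ β) ≫ a₂ ≫ Limits.prod.snd)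
  obtain ⟨f₁, hf₁⟩ := Spec.map_surjective m₁.left
  obtain ⟨f₂, hf₂⟩ := Spec.map_surjective m₂.left
  have key : ∀ (m : Over.mk (W.left.fromSpecResidueField w ≫ W.hom) ⟶ Ext (k := k) K)
      (f : CommRingCat.of K ⟶ W.left.residueField w), Spec.map f = m.left → ∀ x, f (algebraMap k K x) = ψ x := by
    intro m f hf x
    have hw : m.left ≫ Spec.map (CommRingCat.ofHom (algebraMap k K)) = W.left.fromSpecResidueField w ≫ W.hom :=
      Over.w m
    rw [← hf, ← hψ, ← Spec.map_comp] at hw
    exact congrArg (fun g => g.hom x) (Spec.map_injective hw)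
  let φ₁ : K →ₐ[k] Ω := { f₁.hom with commutes' := key m₁ f₁ hf₁ }
  let φ₂ : K →ₐ[k] Ω := { f₂.hom with commutes' := key m₂ f₂ hf₂ }
  letI : Algebra K Ω := φ₁.toRingHom.toAlgebra
  haveI : IsScalarTower k K Ω := IsScalarTower.of_algebraMap_eq fun x => (φ₁.commutes x).symm
  let σ : K ≃ₐ[k] K := φ₂.restrictNormal' K
  have hσ : ∀ x, φ₁ (σ x) = φ₂ x := fun x => φ₂.restrictNormal_commutes K x
  refine ⟨σ, ?_⟩
  rw [← hα, ← hβ, ← ofPt_comp, ← ofPt_comp, Points.map_ofPt]
  have hw' : w = pw.left (IsLocalRing.closedPoint Ω) := (Scheme.fromSpecResidueField_apply _ _).symm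
  rw [hw', ← ofPt_comp, ← ofPt_comp]
  congr 1
  rw [← Functor.map_comp_assoc]
  apply Limits.prod.hom_ext
  · simp only [Category.assoc, Functor.map_comp, Limits.prod.map_fst, Category.comp_id]
    rw [e]
  · simp only [Category.assoc, Limits.prod.map_snd, Functor.map_comp] at hm₁ hm₂ ⊢
    rw [← reassoc_of% hm₁, ← hm₂, ← Functor.map_comp]
    congr 1
    ext1
    show m₁.left ≫ Spec.map _ = m₂.left
    rw [← hf₁, ← hf₂, ← Spec.map_comp]
    congr 1
    ext x
    exact hσ x

/-- closed invariant sets come from below -/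
theorem exists_closed_preimage (X : Sp (Spec (CommRingCat.of k))) (hX : IsAlgSpace X) (K : Type u) [Field K] [Algebra k K]
    [Normal k K] (T : Set (Points (X ⨯ (yon _).obj (Ext (k := k) K)))) (hT : IsClosed T)
    (hσ : ∀ σ : K ≃ₐ[k] K, Points.map (Limits.prod.map (𝟙 X) ((yon _).map (extMap σ.toAlgHom))) '' T = T) :
    ∃ T₀ : Set (Points X), IsClosed T₀ ∧ Points.map Limits.prod.fst ⁻¹' T₀ = T := by
  have hrep : RepWith @UniversallyClosed ((yon _).map (Over.homMk (Spec.map (CommRingCat.ofHom (algebraMap k K))) :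
      Ext (k := k) K ⟶ Over.mk (𝟙 (Spec (CommRingCat.of k))))) := by
    refine (repWith_yon_iff _).2 ?_
    have : IsIntegralHom (Spec.map (CommRingCat.ofHom (algebraMap k K))) := by
      rw [IsIntegralHom.SpecMap_iff]
      exact algebraMap_isIntegral_iff.2 (inferInstance : Algebra.IsIntegral k K)
    exact (inferInstance : UniversallyClosed (Spec.map (CommRingCat.ofHom (algebraMap k K))))
  have hc : IsClosedMap (Points.map (Limits.prod.fst : X ⨯ (yon _).obj (Ext (k := k) K) ⟶ X)) :=
    ((isUnivClosedMor_iff_repWith hrep.1).2 hrep) hX _ _ _ (isPullback_prod X (Ext (k := k) K)).flip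
  refine ⟨_, hc T hT, Set.Subset.antisymm ?_ (Set.subset_preimage_image _ _)⟩
  rintro z ⟨z₁, hz₁, he⟩
  obtain ⟨σ, rfl⟩ := exists_translate X K he
  rw [← hσ σ]
  exact ⟨z₁, hz₁, rfl⟩

/-- an open subgroup stabilises a quasi-compact open set -/
theorem exists_stabilizer (X : Sp (Spec (CommRingCat.of k))) (hX : IsAlgSpace X) (K : Type u) [Field K] [Algebra k K]
    [Algebra.IsAlgebraic k K] (V : Set (Points (X ⨯ (yon _).obj (Ext (k := k) K)))) (hV : IsOpen V) (hVc : IsCompact V) :
    ∃ H : Subgroup (K ≃ₐ[k] K), IsOpen (H : Set (K ≃ₐ[k] K)) ∧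
      ∀ σ ∈ H, Points.map (Limits.prod.map (𝟙 X) ((yon _).map (extMap σ.toAlgHom))) '' V = V := by
  -- around each point: an open subset fixed by a finite level
  have key : ∀ z ∈ V, ∃ (O : Set (Points (X ⨯ (yon _).obj (Ext (k := k) K)))) (E : IntermediateField k K),
      IsOpen O ∧ z ∈ O ∧ O ⊆ V ∧ FiniteDimensional k E ∧ ∀ σ ∈ E.fixingSubgroup,
        Points.map (Limits.prod.map (𝟙 X) ((yon _).map (extMap σ.toAlgHom))) '' O ⊆ O := by
    intro z hz
    obtain ⟨W, a, w₀, hWa, ha, hw₀, -⟩ := SpQS.exists_affine_chart_at hX (Points.map Limits.prod.fst z)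
    obtain ⟨φ, hφ⟩ := Spec.map_surjective (W.left.isoSpec.inv ≫ W.hom)
    let A := Γ(W.left, ⊤)
    letI : Algebra k A := φ.hom.toAlgebra
    let eW : Ext (k := k) A ≅ W := Over.isoMk W.left.isoSpec.symm hφ.symm
    let b := (yon _).map eW.hom ≫ a
    let ps : Ext (k := k) (A ⊗[k] K) ⟶ Ext (k := k) A := extMap Algebra.TensorProduct.includeLeft
    let qs : Ext (k := k) (A ⊗[k] K) ⟶ Ext (k := k) K := extMap Algebra.TensorProduct.includeRight
    have sq0 : IsPullback ps.left qs.left (Ext (k := k) A).hom (Ext (k := k) K).hom :=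
      isPullback_SpecMap_of_isPushout _ _ _ _ (CommRingCat.isPushout_tensorProduct k A K)
    let ls := Limits.prod.lift ((yon _).map ps ≫ b) ((yon _).map qs)
    have sqs : IsPullback ((yon _).map ps) ls b (Limits.prod.fst : X ⨯ (yon _).obj (Ext (k := k) K) ⟶ X) := by
      refine IsPullback.of_bot ?_ (Limits.prod.lift_fst _ _).symm (isPullback_prod X (Ext (k := k) K))
      rw [Limits.prod.lift_snd]
      have sq' : IsPullback ((yon _).map ps) ((yon _).map qs)
          ((yon _).map (Over.homMk (Ext (k := k) A).hom : Ext (k := k) A ⟶ Over.mk (𝟙 _)))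
          ((yon _).map (Over.homMk (Ext (k := k) K).hom : Ext (k := k) K ⟶ Over.mk (𝟙 _))) := isPullback_yon_iff.2 sq0
      have e := (Over.mkIdTerminal.isTerminalObj (yon (Spec (CommRingCat.of k)))).hom_ext
        ((yon _).map (Over.homMk (Ext (k := k) A).hom : Ext (k := k) A ⟶ Over.mk (𝟙 _)))
        (b ≫ (Over.mkIdTerminal.isTerminalObj (yon (Spec (CommRingCat.of k)))).from X)
      rw [e] at sq'
      exact sq'
    have hb : RepWith @Etale b := by
      refine repWith_comp ((repWith_yon_iff eW.hom).2 ?_) ha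
      haveI : IsIso eW.hom.left := inferInstanceAs (IsIso ((Over.forget _).map eW.hom))
      exact (inferInstance : Etale eW.hom.left)
    have hls : RepWith @Etale ls := repWith_baseChange sqs hb
    obtain ⟨p, -, hp⟩ := exists_point_of_isPullback sqs (Points.ofScheme (Ext (k := k) A) (eW.inv.left w₀)) z (by
      rw [Points.map_ofPt, Category.id_comp, ← hw₀]
      show Points.ofPt ((yon _).map eW.hom ≫ a) (eW.inv.left w₀) = _
      rw [ofPt_comp, ← Scheme.Hom.comp_apply, ← Over.comp_left, eW.inv_hom_id]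
      rfl)
    obtain ⟨q, rfl⟩ := (Points.schemeEquiv _).surjective p
    have hq : Points.ofPt ls q = z := by
      rw [← hp]
      exact ((Points.map_ofPt _ _ _).trans (by rw [Category.id_comp])).symm
    obtain ⟨-, ⟨f, rfl⟩, hqf, hf⟩ := PrimeSpectrum.isTopologicalBasis_basic_opens.exists_subset_of_mem_open
      (show q ∈ Points.ofPt ls ⁻¹' V by rw [Set.mem_preimage, hq]; exact hz) (hV.preimage (Points.continuous_ofPt ls))
    obtain ⟨C, ⟨s, rfl⟩, hC⟩ := exists_fg_and_mem_baseChange f
    let E := IntermediateField.adjoin k (s : Set K)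
    refine ⟨Points.ofPt ls '' (PrimeSpectrum.basicOpen f : Set (PrimeSpectrum (A ⊗[k] K))), E,
      (isOpenMap_ofPt (repWith_universallyOpen_of_etale hls)) _ (PrimeSpectrum.basicOpen f).isOpen, ⟨q, hqf, hq⟩,
      Set.image_subset_iff.2 hf, IntermediateField.finiteDimensional_adjoin fun x _ => Algebra.IsIntegral.isIntegral x, ?_⟩
    intro σ hσ
    let τ : A ⊗[k] K →ₐ[k] A ⊗[k] K := (Algebra.TensorProduct.map (AlgHom.id A A) σ.toAlgHom).restrictScalars k
    have hτf : τ f = f := by
      obtain ⟨c, hc⟩ := hC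
      have h0 : (Algebra.TensorProduct.map (AlgHom.id A A) σ.toAlgHom).comp
          (Algebra.TensorProduct.map (AlgHom.id A A) (Algebra.adjoin k (s : Set K)).val) =
          Algebra.TensorProduct.map (AlgHom.id A A) (Algebra.adjoin k (s : Set K)).val := by
        refine Algebra.TensorProduct.ext' fun a x => ?_
        show a ⊗ₜ[k] σ (x : K) = a ⊗ₜ[k] (x : K)
        rw [(IntermediateField.mem_fixingSubgroup_iff E σ).1 hσ x
          (Algebra.adjoin_le (show (s : Set K) ⊆ E.toSubalgebra from IntermediateField.subset_adjoin k _) x.2)]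
      rw [← hc]
      exact congrArg (fun ψ => ψ c) h0
    have hcomp : (yon _).map (extMap τ) ≫ ls = ls ≫ Limits.prod.map (𝟙 X) ((yon _).map (extMap σ.toAlgHom)) := by
      apply Limits.prod.hom_ext
      · rw [Category.assoc, Category.assoc, Limits.prod.lift_fst, Limits.prod.map_fst, Category.comp_id,
          Limits.prod.lift_fst, ← Functor.map_comp_assoc]
        congr 2
        ext1
        show Spec.map _ ≫ Spec.map _ = Spec.map _
        rw [← Spec.map_comp]; congr 1; ext x
        exact (Algebra.TensorProduct.map (AlgHom.id A A) σ.toAlgHom).commutes x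
      · rw [Category.assoc, Category.assoc, Limits.prod.lift_snd, Limits.prod.map_snd, ← Category.assoc ls,
          Limits.prod.lift_snd, ← Functor.map_comp, ← Functor.map_comp]
        congr 1
        ext1
        show Spec.map _ ≫ Spec.map _ = Spec.map _ ≫ Spec.map _
        rw [← Spec.map_comp, ← Spec.map_comp]; rfl
    rintro _ ⟨_, ⟨x, hx, rfl⟩, rfl⟩
    refine ⟨(extMap τ).left x, ?_, ?_⟩
    · show f ∉ (PrimeSpectrum.comap τ.toRingHom x).asIdeal
      show τ f ∉ x.asIdeal
      rw [hτf]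
      exact hx
    · rw [Points.map_ofPt, ← hcomp, ofPt_comp]
  choose O E hO hzO hOV hE hfix using key
  obtain ⟨t, ht⟩ := hVc.elim_finite_subcover (fun z : V => O z z.2) (fun z => hO z z.2)
    (fun z hz => Set.mem_iUnion.2 ⟨⟨z, hz⟩, hzO z hz⟩)
  let F := ⨆ z : t, E z.1 z.1.2
  haveI : ∀ z : t, FiniteDimensional k (E z.1 z.1.2) := fun z => hE _ _
  haveI : FiniteDimensional k F := IntermediateField.finiteDimensional_iSup_of_finite
  refine ⟨F.fixingSubgroup, F.fixingSubgroup_isOpen, fun σ hσ => ?_⟩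
  have key2 : ∀ τ ∈ F.fixingSubgroup, Points.map (Limits.prod.map (𝟙 X) ((yon _).map (extMap τ.toAlgHom))) '' V ⊆ V := by
    rintro τ hτ _ ⟨v, hv, rfl⟩
    obtain ⟨z, hzt, hvO⟩ := Set.mem_iUnion₂.1 (ht hv)
    exact hOV _ _ (hfix _ _ τ (IntermediateField.fixingSubgroup_antitone
      (le_iSup (fun z : t => E z.1 z.1.2) ⟨z, hzt⟩) hτ) ⟨v, hvO, rfl⟩)
  refine (key2 σ hσ).antisymm fun v hv => ⟨_, key2 σ⁻¹ (inv_mem hσ) ⟨v, hv, rfl⟩, ?_⟩
  rw [← Points.map_comp, Limits.prod.map_map, Category.comp_id, ← Functor.map_comp]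
  have : extMap (k := k) σ⁻¹.toAlgHom ≫ extMap σ.toAlgHom = 𝟙 (Ext (k := k) K) := by
    ext1
    show Spec.map _ ≫ Spec.map _ = 𝟙 (Spec _)
    rw [← Spec.map_comp, ← Spec.map_id]
    congr 1
    ext x
    exact σ.symm_apply_apply x
  rw [this, CategoryTheory.Functor.map_id, Limits.prod.map_id_id, Points.map_id]

end Groth.Agent.GaloisPts
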