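import Groth.Agent.GaloisPts.Basic

/-!
Quasi-compact open sets of a Galois base change come from a finite level.
-/

universe u
open CategoryTheory CategoryTheory.Limits AlgebraicGeometry AlgSp Topology TensorProduct

set_option backward.isDefEq.respectTransparency false

namespace Groth.Agent.GaloisPts

open Groth.Agent.AlgSpLib Groth.Agent.GeomPi0

variable {k : Type u} [Field k]

/-- points over the same point are translates -/
theorem exists_translate_over (X : Sp (Spec (CommRingCat.of k))) (K : Type u) [Field K] [Algebra k K] [Normal k K] (E : IntermediateField k K)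
    {z₁ z₂ : Points (X ⨯ (yon _).obj (Ext (k := k) K))}
    (h : Points.map (Limits.prod.map (𝟙 X) ((yon _).map (extMap E.val))) z₁ =
      Points.map (Limits.prod.map (𝟙 X) ((yon _).map (extMap E.val))) z₂) :
    ∃ σ : K ≃ₐ[k] K, σ ∈ E.fixingSubgroup ∧ Points.map (Limits.prod.map (𝟙 X) ((yon _).map (extMap σ.toAlgHom))) z₁ = z₂ := by
  obtain ⟨T₁, a₁, t₁, rfl⟩ := exists_ofPt z₁
  obtain ⟨T₂, a₂, t₂, rfl⟩ := exists_ofPt z₂
  rw [Points.map_ofPt, Points.map_ofPt] at h
  obtain ⟨W, α, β, w, e', hα, hβ⟩ := exists_of_ofPt_eq h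
  have e := congrArg (· ≫ (Limits.prod.fst : X ⨯ (yon _).obj (Ext (k := k) E) ⟶ X)) e'
  simp only [Category.assoc, Limits.prod.map_fst, Category.comp_id] at e
  have es := congrArg (· ≫ (Limits.prod.snd : X ⨯ (yon _).obj (Ext (k := k) E) ⟶ _)) e'
  simp only [Category.assoc, Limits.prod.map_snd] at es
  let Ω := W.left.residueField w
  let pw : Over.mk (W.left.fromSpecResidueField w ≫ W.hom) ⟶ W := Over.homMk (W.left.fromSpecResidueField w) rfl
  obtain ⟨ψ, hψ⟩ := Spec.map_surjective (W.left.fromSpecResidueField w ≫ W.hom)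
  letI : Algebra k Ω := ψ.hom.toAlgebra
  obtain ⟨m₁, hm₁⟩ := (yon _).map_surjective ((yon _).map (pw ≫ α) ≫ a₁ ≫ Limits.prod.snd)
  obtain ⟨m₂, hm₂⟩ := (yon _).map_surjective ((yon _).map (pw ≫ β) ≫ a₂ ≫ Limits.prod.snd)
  obtain ⟨f₁, hf₁⟩ := Spec.map_surjective m₁.left
  obtain ⟨f₂, hf₂⟩ := Spec.map_surjective m₂.left
  have key : ∀ (m : Over.mk (W.left.fromSpecResidueField w ≫ W.hom) ⟶ Ext (k := k) K)
      (f : CommRingCat.of K ⟶ W.left.residueField w), Spec.map f = m.left → ∀ x, f (algebraMap k K x) = ψ x := by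
    intro m f hf x
    have hw : m.left ≫ Spec.map (CommRingCat.ofHom (algebraMap k K)) = W.left.fromSpecResidueField w ≫ W.hom :=
      Over.w m
    rw [← hf, ← hψ, ← Spec.map_comp] at hw
    exact congrArg (fun g => g.hom x) (Spec.map_injective hw)
  let φ₁ : K →ₐ[k] Ω := { f₁.hom with commutes' := key m₁ f₁ hf₁ }
  let φ₂ : K →ₐ[k] Ω := { f₂.hom with commutes' := key m₂ f₂ hf₂ }
  letI : Algebra K Ω := φ₁.toRingHom.toAlgebra
  haveI : IsScalarTower k K Ω := IsScalarTower.of_algebraMap_eq fun x => (φ₁.commutes x).symm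
  let σ : K ≃ₐ[k] K := φ₂.restrictNormal' K
  have hσ : ∀ x, φ₁ (σ x) = φ₂ x := fun x => φ₂.restrictNormal_commutes K x
  have hE : ∀ x : E, φ₂ x = φ₁ x := by
    have hm : m₁ ≫ extMap E.val = m₂ ≫ extMap E.val := by
      apply (yon _).map_injective
      rw [Functor.map_comp, Functor.map_comp, hm₁, hm₂]
      simp only [Category.assoc, Functor.map_comp]
      exact congrArg (fun q => (yon _).map pw ≫ q) es
    have h3 := congrArg Over.Hom.left hm
    rw [Over.comp_left, Over.comp_left, ← hf₁, ← hf₂] at h3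
    change _ ≫ Spec.map _ = _ ≫ Spec.map _ at h3
    rw [← Spec.map_comp, ← Spec.map_comp] at h3
    exact fun x => (congrArg (fun g => g.hom x) (Spec.map_injective h3)).symm
  refine ⟨σ, (IntermediateField.mem_fixingSubgroup_iff E σ).2 fun x hx => φ₁.toRingHom.injective ((hσ x).trans (hE ⟨x, hx⟩)), ?_⟩
  rw [← hα, ← hβ, ← ofPt_comp, ← ofPt_comp, Points.map_ofPt]
  have hw' : w = pw.left (IsLocalRing.closedPoint Ω) := (Scheme.fromSpecResidueField_apply _ _).symm
  rw [hw', ← ofPt_comp, ← ofPt_comp]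
  congr 1
  rw [← Functor.map_comp_assoc]
  apply Limits.prod.hom_ext
  · simp only [Category.assoc, Functor.map_comp, Limits.prod.map_fst, Category.comp_id]
    rw [e]
  · simp only [Category.assoc, Limits.prod.map_snd, Functor.map_comp] at hm₁ hm₂ ⊢
    rw [← reassoc_of% hm₁, ← hm₂, ← Functor.map_comp]
    congr 1
    ext1
    show m₁.left ≫ Spec.map _ = m₂.left
    rw [← hf₁, ← hf₂, ← Spec.map_comp]
    congr 1
    ext x
    exact hσ x

/-- descent of a quasi-compact open set to a finite level -/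
theorem exists_descend (X : Sp (Spec (CommRingCat.of k))) (hX : IsAlgSpace X) (K : Type u) [Field K] [Algebra k K]
    [IsGalois k K] (V : Set (Points (X ⨯ (yon _).obj (Ext (k := k) K)))) (hV : IsOpen V) (hVc : IsCompact V) :
    ∃ (E : IntermediateField k K) (_ : FiniteDimensional k E),
      IsOpen (Points.map (Limits.prod.map (𝟙 X) ((yon _).map (extMap E.val))) '' V) ∧
        IsCompact (Points.map (Limits.prod.map (𝟙 X) ((yon _).map (extMap E.val))) '' V) ∧
        Points.map (Limits.prod.map (𝟙 X) ((yon _).map (extMap E.val))) ⁻¹'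
          (Points.map (Limits.prod.map (𝟙 X) ((yon _).map (extMap E.val))) '' V) = V := by
  obtain ⟨H, hH, h⟩ := exists_stabilizer X hX K V hV hVc
  obtain ⟨E, hE, hEH⟩ := (krullTopology_mem_nhds_one_iff k K (H : Set (K ≃ₐ[k] K))).1 (hH.mem_nhds H.one_mem)
  refine ⟨E, hE, ?_, hVc.image (Points.continuous_map _), Set.Subset.antisymm ?_ (Set.subset_preimage_image _ _)⟩
  · exact isUnivOpenMor_to_field (IsAlgSpace.yon_obj _) _ ((yon _).map (extMap E.val)) (isAlgSpace_prod hX _)
      Limits.prod.snd Limits.prod.snd _ (isPullback_prod_map X (extMap E.val)).flip V hV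
  · rintro z ⟨v, hv, he⟩
    obtain ⟨σ, hσ, rfl⟩ := exists_translate_over X K E he
    rw [← h σ (hEH hσ)]
    exact ⟨v, hv, rfl⟩

end Groth.Agent.GaloisPts
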